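import Mathlib
import Cfsg.Prelude.Def_SporadicB
import Cfsg.Agent.Lib.Helper11.SimpleModel

/-!
# 3-transposition classes from a verified permutation model
-/

set_option autoImplicit false

namespace Cfsg.Agent.Lib.Helper3

open Cfsg.Agent.Lib.Helper11
open scoped Pointwise

theorem mem_conjOf_iff {G : Type*} [Group G] {a b : G} : b ∈ conjugatesOf a ↔ IsConj a b := Iff.rfl

/-- transport of a non-split double cover along an isomorphism -/
theorem nonsplitDoubleCover_congr {H H' K : Type*} [Group H] [Group H'] [Group K] (e : H ≃* H')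
    (h : Cfsg.IsNonsplitDoubleCover H K) : Cfsg.IsNonsplitDoubleCover H' K := by
  obtain ⟨h1, ⟨f⟩, h3⟩ := h
  have hc : (Subgroup.center H).map e.toMonoidHom = Subgroup.center H' := by
    ext x
    constructor
    · rintro ⟨y, hy, rfl⟩
      rw [Subgroup.mem_center_iff]
      intro g
      obtain ⟨g', rfl⟩ := e.surjective g
      have := (Subgroup.mem_center_iff.1 hy) g'
      show e g' * e y = e y * e g'
      rw [← map_mul, ← map_mul, this]
    · intro hx
      refine ⟨e.symm x, ?_, by simp⟩
      show e.symm x ∈ Subgroup.center H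
      rw [Subgroup.mem_center_iff]
      intro g
      apply e.injective
      rw [map_mul, map_mul, e.apply_symm_apply]
      exact (Subgroup.mem_center_iff.1 hx) (e g)
  refine ⟨?_, ?_, ?_⟩
  · rw [← hc, Subgroup.card_map_of_injective (f := e.toMonoidHom) e.injective, h1]
  · exact ⟨(QuotientGroup.congr (Subgroup.center H) (Subgroup.center H') e hc).symm.trans f⟩
  · intro L hL
    apply h3 (L.comap e.toMonoidHom)
    have hcm : ∀ y : H', y ∈ Subgroup.center H' → e.symm y ∈ Subgroup.center H := by
      intro y hy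
      rw [← hc] at hy
      obtain ⟨z, hz, e1⟩ := hy
      rw [← e1]
      simpa using hz
    apply Subgroup.isComplement'_of_disjoint_and_mul_eq_univ
    · rw [Subgroup.disjoint_def]
      intro x hx1 hx2
      have h4 : e x ∈ Subgroup.center H' := by
        rw [← hc]; exact ⟨x, hx1, rfl⟩
      have h5 := (Subgroup.disjoint_def.1 hL.disjoint) h4 hx2
      exact e.injective (by rw [h5, map_one])
    · rw [Set.eq_univ_iff_forall]
      intro g
      have h4 : e g ∈ (Subgroup.center H' : Set H') * (L : Set H') := by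
        rw [hL.mul_eq]; exact Set.mem_univ _
      obtain ⟨z, hz, l, hl, h5⟩ := Set.mem_mul.1 h4
      refine Set.mem_mul.2 ⟨e.symm z, hcm z hz, e.symm l, ?_, ?_⟩
      · show e (e.symm l) ∈ L
        rw [e.apply_symm_apply]; exact hl
      · rw [← map_mul, h5, e.symm_apply_apply]

section

variable {G : Type*} [Group G]

/-- the 3-transposition property from double coset representatives -/
theorem threeTrSet_of_reps (H : Subgroup G) (t : G) (reps : List G)
    (hcov : ∀ g : G, g ∈ H ∨ ∃ x ∈ reps, ∃ h ∈ H, ∃ h' ∈ H, g = h * x * h')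
    (ht : ∀ h ∈ H, h * t = t * h) (ht2 : t * t = 1) (ht1 : t ≠ 1)
    (hr : ∀ x ∈ reps, (t * (x * t * x⁻¹)) ^ 2 = 1 ∨ (t * (x * t * x⁻¹)) ^ 3 = 1) :
    Cfsg.IsThreeTranspositionSet (conjugatesOf t) := by
  constructor
  · intro d hd
    rw [mem_conjOf_iff, isConj_iff] at hd
    obtain ⟨c, rfl⟩ := hd
    have : orderOf (c * t * c⁻¹) = orderOf t := by
      have := orderOf_injective (MulAut.conj c).toMonoidHom (MulAut.conj c).injective t
      simpa using this
    rw [this]
    exact orderOf_eq_prime (by rw [pow_two, ht2]) ht1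
  · intro d hd e he
    rw [mem_conjOf_iff, isConj_iff] at hd he
    obtain ⟨c1, rfl⟩ := hd
    obtain ⟨c2, rfl⟩ := he
    have key : ∀ (y : G) (k : ℕ), (t * y) ^ k = 1 → ∀ h ∈ H,
        (c1 * t * c1⁻¹ * (c1 * (h * y * h⁻¹) * c1⁻¹)) ^ k = 1 := by
      intro y k hy h hh
      have e1 : c1 * t * c1⁻¹ * (c1 * (h * y * h⁻¹) * c1⁻¹) =
          (c1 * h) * (t * y) * (c1 * h)⁻¹ := by
        have : c1 * h * (t * y) * (c1 * h)⁻¹ = c1 * (h * t) * y * h⁻¹ * c1⁻¹ := by group
        rw [this, ht h hh]
        group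
      rw [e1, conj_pow, hy]
      group
    have hc2 : c2 * t * c2⁻¹ = c1 * ((c1⁻¹ * c2) * t * (c1⁻¹ * c2)⁻¹) * c1⁻¹ := by group
    rw [hc2]
    rcases hcov (c1⁻¹ * c2) with hg | ⟨x, hx, h, hh, h', hh', hg⟩
    · left
      have e2 : (c1⁻¹ * c2) * t * (c1⁻¹ * c2)⁻¹ = 1 * t * 1⁻¹ := by
        rw [ht _ hg]; group
      rw [e2]
      exact key t 2 (by rw [ht2, one_pow]) 1 H.one_mem
    · have e2 : (c1⁻¹ * c2) * t * (c1⁻¹ * c2)⁻¹ = h * (x * t * x⁻¹) * h⁻¹ := by
        rw [hg]
        have : h * x * h' * t * (h * x * h')⁻¹ = h * x * (h' * t) * h'⁻¹ * x⁻¹ * h⁻¹ := by group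
        rw [this, ht _ hh']
        group
      rw [e2]
      rcases hr x hx with h2 | h3
      · left; exact key _ 2 h2 h hh
      · right; exact key _ 3 h3 h hh

theorem centralizer_eq_of_coatom (H : Subgroup G) (hmax : IsCoatom H) (t : G)
    (ht : ∀ h ∈ H, h * t = t * h) (hZ : t ∉ Subgroup.center G) :
    Subgroup.centralizer {t} = H := by
  have hle : H ≤ Subgroup.centralizer {t} := by
    intro h hh
    rw [Subgroup.mem_centralizer_iff]
    intro y hy
    rw [Set.mem_singleton_iff] at hy
    rw [hy]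
    exact (ht h hh).symm
  rcases eq_or_lt_of_le hle with h | h
  · exact h.symm
  · exfalso
    have := hmax.2 _ h
    apply hZ
    rw [Subgroup.mem_center_iff]
    intro g
    have hg : g ∈ Subgroup.centralizer {t} := by rw [this]; exact Subgroup.mem_top g
    rw [Subgroup.mem_centralizer_iff] at hg
    exact (hg t rfl).symm

theorem card_conjugatesOf (t : G) :
    Nat.card (conjugatesOf t) = (Subgroup.centralizer {t}).index := by
  have h1 := MulAction.index_stabilizer (ConjAct G) t
  rw [ConjAct.orbit_eq_carrier_conjClasses] at h1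
  have h2 : (ConjClasses.mk t).carrier = conjugatesOf t := by
    ext x
    rw [ConjClasses.mem_carrier_iff_mk_eq, mem_conjOf_iff,
      ConjClasses.mk_eq_mk_iff_isConj, isConj_comm]
  rw [h2] at h1
  rw [Nat.card_coe_set_eq, ← h1, Subgroup.centralizer_eq_comap_stabilizer]
  exact (Subgroup.index_comap_of_surjective _ ConjAct.toConjAct.surjective).symm

/-- centralisers of conjugate elements are isomorphic -/
theorem centralizer_conj_equiv (t c : G) :
    Nonempty (Subgroup.centralizer {t} ≃* Subgroup.centralizer {c * t * c⁻¹}) := by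
  have : (Subgroup.centralizer {t}).map (MulAut.conj c).toMonoidHom =
      Subgroup.centralizer {c * t * c⁻¹} := by
    ext x
    constructor
    · rintro ⟨y, hy, rfl⟩
      rw [SetLike.mem_coe, Subgroup.mem_centralizer_iff] at hy
      rw [Subgroup.mem_centralizer_iff]
      intro z hz
      rw [Set.mem_singleton_iff] at hz
      subst hz
      have := hy t rfl
      show c * t * c⁻¹ * (c * y * c⁻¹) = c * y * c⁻¹ * (c * t * c⁻¹)
      have e1 : c * t * c⁻¹ * (c * y * c⁻¹) = c * (t * y) * c⁻¹ := by group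
      have e2 : c * y * c⁻¹ * (c * t * c⁻¹) = c * (y * t) * c⁻¹ := by group
      rw [e1, e2, this]
    · intro hx
      rw [Subgroup.mem_centralizer_iff] at hx
      refine ⟨c⁻¹ * x * c, ?_, ?_⟩
      · rw [SetLike.mem_coe, Subgroup.mem_centralizer_iff]
        intro z hz
        rw [Set.mem_singleton_iff] at hz
        subst hz
        have := hx _ rfl
        have e1 : z * (c⁻¹ * x * c) = c⁻¹ * (c * z * c⁻¹ * x) * c := by group
        have e2 : c⁻¹ * x * c * z = c⁻¹ * (x * (c * z * c⁻¹)) * c := by group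
        rw [e1, e2, this]
      · show c * (c⁻¹ * x * c) * c⁻¹ = x
        group
  rw [← this]
  exact ⟨(Subgroup.centralizer {t}).equivMapOfInjective _ (MulAut.conj c).injective⟩

end

end Cfsg.Agent.Lib.Helper3
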