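import Mathlib
import Cfsg.Agent.Lib.Helper3.TTReal

/-!
# 3-transposition classes from a verified permutation model, II
-/

set_option autoImplicit false

namespace Cfsg.Agent.Lib.Helper3

open Cfsg.Agent.Lib.Helper11

section

variable {G F : Type*} [Group G] [Group F]

theorem primChk_cover (mk : F →* G) (H : Subgroup G) (ψ : G →* Equiv.Perm ℕ)
    (φ : ℕ → F) (INV : ℕ) (NT : ℕ → List (ℕ × ℕ)) (P2 : ℕ)
    (hNT : ∀ l, ∀ st ∈ NT l, stOK P2 st = true)
    (hψ : ∀ e : WExp, ψ (mk (e.eval φ)) = wordPerm NT (e.letters INV))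
    (hm : List (List ℕ)) (hmv : ∀ w ∈ hm, ∃ t ∈ H, ψ t = wordPerm NT w) (n : ℕ)
    (hfix : ∀ h ∈ H, ψ h 0 = 0) (hinj : Function.Injective (cosetPt H ψ hfix))
    (hlt : ∀ g : G, ψ g 0 < n) :
    ∀ (L : List (ℕ × ℕ × WExp × ℕ)) (a : ℕ), Helper11.primChk NT INV hm n a L = true →
      ∀ g : G, a ≤ ψ g 0 → ∃ x ∈ L, ∃ h ∈ H, ∃ h' ∈ H, g = h * mk (x.2.2.1.eval φ) * h' := by
  intro L
  induction L with
  | nil =>
    intro a h g hg
    have : a = n := Nat.eq_of_beq_eq_true h
    have := hlt g
    omega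
  | cons x rest ih =>
    intro a h g hg
    simp only [Helper11.primChk, Bool.and_eq_true] at h
    obtain ⟨h1, h2, h3, h4⟩ := h
    by_cases hc : ψ g 0 < a + x.1
    · obtain ⟨h, hh, e⟩ := reach_of_grow ψ H P2 NT hNT hm hmv a _ a _ h1 _ hg hc
      have hw : ψ (mk (x.2.2.1.eval φ)) 0 = a := by
        rw [hψ]; exact mapChk_spec P2 NT hNT _ _ _ h2
      have e2 : ψ (h * mk (x.2.2.1.eval φ)) 0 = ψ g 0 := by
        rw [map_mul, Equiv.Perm.mul_apply, hw, e]
      have h5 := mem_of_fix H ψ hfix hinj _ _ e2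
      exact ⟨x, by simp, h, hh, _, h5, by group⟩
    · obtain ⟨y, hy, r⟩ := ih _ h4 g (by omega)
      exact ⟨y, by simp [hy], r⟩

/-- the word whose square or cube has to vanish -/
def ttExp (tE x : WExp) : WExp := .mul tE (.mul (.mul x tE) (.inv x))

/-- The main theorem: a class of 3-transpositions from a model. -/
theorem model_threeTr (mk : F →* G) (S : Set F) (ψ : G →* Equiv.Perm ℕ)
    (φ : ℕ → F) (INV : ℕ) (NT : ℕ → List (ℕ × ℕ)) (k : ℕ)
    (hNT : ∀ l, ∀ st ∈ NT l, stOK (2 ^ (2 ^ k)) st = true)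
    (hψ : ∀ e : WExp, ψ (mk (e.eval φ)) = wordPerm NT (e.letters INV))
    (hExps : List WExp) (hS1 : ∀ s ∈ S, ∃ e ∈ hExps, e.eval φ = s)
    (hS2 : ∀ e ∈ hExps, e.eval φ ∈ S)
    (gExps : List WExp)
    (hgen : ∀ g : G, g ∈ Subgroup.closure {t | ∃ e ∈ gExps, t = mk (e.eval φ)}) (n r0 : ℕ)
    (hn : 1 < n)
    (hup : ((Subgroup.closure S).map mk).index ≠ 0 ∧ ((Subgroup.closure S).map mk).index ≤ n)
    (hfix0 : fixChk NT (hExps.map (fun e => e.letters INV)) 0 1 = true)
    (htr : growChk NT (gExps.map (fun e => e.letters INV)) r0 0 0 n = true)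
    (hinvn : fixChk NT (gExps.map (fun e => e.letters INV)) 0 n = true)
    (bs : List ℕ) (hbs : stabL ψ bs = ⊥) (hbn : ∀ b ∈ bs, b < n)
    (L : List (ℕ × ℕ × WExp × ℕ))
    (hprim : Helper11.primChk NT INV (hExps.map (fun e => e.letters INV)) n 1 L = true)
    (hperf : commutator G = ⊤)
    (tE : WExp)
    (hnorm : normChk NT k (hExps.map (fun e => e.letters INV)) (tE.letters INV)
      ((WExp.inv tE).letters INV) = true)
    (hgenA : Subgroup.normalClosure {mk (tE.eval φ)} = ⊤)
    (ht2 : mk (tE.eval φ) * mk (tE.eval φ) = 1)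
    (hrel : L.all (fun x => wordId NT k ((WExp.pow (ttExp tE x.2.2.1) 2).letters INV) ||
      wordId NT k ((WExp.pow (ttExp tE x.2.2.1) 3).letters INV)) = true) :
    Cfsg.IsThreeTranspositionClass (conjugatesOf (mk (tE.eval φ))) ∧
      Nat.card (conjugatesOf (mk (tE.eval φ))) = n ∧
      ∀ d ∈ conjugatesOf (mk (tE.eval φ)),
        Nonempty (((Subgroup.closure S).map mk) ≃* Subgroup.centralizer {d}) := by
  set H := (Subgroup.closure S).map mk with hH
  have hfaith : ∀ g : G, (∀ p < n, ψ g p = p) → g = 1 := by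
    intro g hg
    have : g ∈ stabL ψ bs := fun b hb => hg b (hbn b hb)
    rw [hbs] at this
    exact Subgroup.mem_bot.1 this
  have hψinj : Function.Injective ψ := by
    rw [injective_iff_map_eq_one]
    intro g hg
    apply hfaith
    intro p _
    rw [hg]; rfl
  have hHc : H = Subgroup.closure (mk '' S) := by rw [hH, MonoidHom.map_closure]
  have hT : ∀ t ∈ mk '' S, ∃ w ∈ hExps.map (fun e => e.letters INV), ψ t = wordPerm NT w := by
    rintro _ ⟨s, hs, rfl⟩
    obtain ⟨e, he, rfl⟩ := hS1 s hs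
    exact ⟨_, List.mem_map_of_mem he, hψ e⟩
  have hmv : ∀ w ∈ hExps.map (fun e => e.letters INV), ∃ t ∈ H, ψ t = wordPerm NT w := by
    intro w hw
    obtain ⟨e, he, rfl⟩ := List.mem_map.1 hw
    exact ⟨mk (e.eval φ), Subgroup.mem_map_of_mem _ (Subgroup.subset_closure (hS2 e he)), hψ e⟩
  have hfix : ∀ h ∈ H, ψ h 0 = 0 := by
    intro h hh
    rw [hHc] at hh
    have := (inv_of_bits ψ (mk '' S) _ NT hNT _ hT 0 1 hfix0 h hh 0).2 ⟨le_refl _, by norm_num⟩
    omega
  have htrans : ∀ p, p < n → ∃ g : G, ψ g 0 = p := by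
    intro p hp
    obtain ⟨g, _, e⟩ := reach_of_grow ψ ⊤ _ NT hNT (gExps.map (fun e => e.letters INV)) (by
      intro w hw
      obtain ⟨e, _, rfl⟩ := List.mem_map.1 hw
      exact ⟨mk (e.eval φ), Subgroup.mem_top _, hψ e⟩) 0 r0 0 n htr p (Nat.zero_le _) (by omega)
    exact ⟨g, e⟩
  obtain ⟨hidx, hinj⟩ := model_index H ψ n hup hfix htrans
  have hlt : ∀ g : G, ψ g 0 < n := by
    intro g
    have := (inv_of_bits ψ {t | ∃ e ∈ gExps, t = mk (e.eval φ)} _ NT hNT
      (gExps.map (fun e => e.letters INV)) (by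
        rintro _ ⟨e, he, rfl⟩
        exact ⟨_, List.mem_map_of_mem he, hψ e⟩) 0 n hinvn g (hgen g) 0).2 ⟨le_refl _, by omega⟩
    omega
  have hcases := primChk_spec mk H ψ φ INV NT _ hNT hψ _ hmv n hfix hinj hlt L 1 hprim
  have hcover := primChk_cover mk H ψ φ INV NT _ hNT hψ _ hmv n hfix hinj hlt L 1 hprim
  have hmax : IsCoatom H := by
    apply coatom_of_model H ψ hfix hinj
    · obtain ⟨g, hg⟩ := htrans 1 hn
      exact ⟨g, by omega⟩
    · intro K hK k hk h0
      exact hcases K hK k hk h0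
  have hnt : Nontrivial G := by
    obtain ⟨g, hg⟩ := htrans 1 hn
    refine ⟨g, 1, ?_⟩
    rintro rfl
    simp at hg
  set t := mk (tE.eval φ) with ht
  have htinv : t⁻¹ = t := inv_eq_of_mul_eq_one_left ht2
  have hcent : ∀ h ∈ H, h * t = t * h := by
    have hle : H ≤ Subgroup.centralizer {t} := by
      rw [hHc, Subgroup.closure_le]
      rintro _ ⟨s, hs, rfl⟩
      obtain ⟨e, he, rfl⟩ := hS1 s hs
      unfold normChk at hnorm
      rw [List.all_eq_true] at hnorm
      have h1 := hnorm _ (List.mem_map_of_mem he)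
      rw [Bool.or_eq_true] at h1
      rw [SetLike.mem_coe, Subgroup.mem_centralizer_iff]
      intro y hy
      rw [Set.mem_singleton_iff] at hy
      subst hy
      rcases h1 with h1 | h1
      · apply hψinj
        have := wordEq_spec NT k hNT _ _ h1
        rw [wordPerm_append, wordPerm_append, ← hψ, ← hψ] at this
        rw [map_mul, map_mul]; exact this.symm
      · apply hψinj
        have := wordEq_spec NT k hNT _ _ h1
        rw [wordPerm_append, wordPerm_append, ← hψ, ← hψ, ← hψ] at this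
        rw [map_mul, map_mul]
        have h2 : mk ((WExp.inv tE).eval φ) = t := by
          rw [WExp.eval, map_inv, ← ht, htinv]
        rw [h2] at this
        exact this.symm
    intro h hh
    have := hle hh
    rw [Subgroup.mem_centralizer_iff] at this
    exact (this t rfl).symm
  have ht1 : t ≠ 1 := by
    intro h1
    rw [h1] at hgenA
    have : Subgroup.normalClosure ({1} : Set G) = ⊥ := by
      rw [eq_bot_iff]
      apply Subgroup.normalClosure_le_normal
      simp
    rw [this] at hgenA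
    exact bot_ne_top hgenA
  have hZ : t ∉ Subgroup.center G := by
    intro hz
    -- then the normal closure is central, so `G` is abelian
    have h1 : Subgroup.normalClosure {t} ≤ Subgroup.center G :=
      Subgroup.normalClosure_le_normal (by simpa using hz)
    rw [hgenA, top_le_iff] at h1
    have h3 : commutator G = ⊥ := by
      rw [commutator_def, Subgroup.commutator_eq_bot_iff_le_centralizer]
      intro x _
      rw [Subgroup.mem_centralizer_iff]
      intro y _
      have : x ∈ Subgroup.center G := by rw [h1]; exact Subgroup.mem_top x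
      exact (Subgroup.mem_center_iff.1 this) y
    rw [hperf] at h3
    exact bot_ne_top h3.symm
  have hC := centralizer_eq_of_coatom H hmax t hcent hZ
  refine ⟨⟨?_, ⟨t, mem_conjugatesOf_self, rfl⟩, ?_⟩, ?_, ?_⟩
  · apply threeTrSet_of_reps H t (L.map fun x => mk (x.2.2.1.eval φ)) _ hcent ht2 ht1
    · intro y hy
      obtain ⟨x, hx, rfl⟩ := List.mem_map.1 hy
      rw [List.all_eq_true] at hrel
      have h1 := hrel x hx
      rw [Bool.or_eq_true] at h1
      have hval : ∀ j, mk ((WExp.pow (ttExp tE x.2.2.1) j).eval φ) =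
          (t * (mk (x.2.2.1.eval φ) * t * (mk (x.2.2.1.eval φ))⁻¹)) ^ j := by
        intro j
        simp only [WExp.eval, ttExp, map_pow, map_mul, map_inv, ← ht]
      rcases h1 with h1 | h1
      · left
        rw [← hval]
        apply hψinj
        rw [hψ, map_one]
        exact wordId_spec NT k hNT _ h1
      · right
        rw [← hval]
        apply hψinj
        rw [hψ, map_one]
        exact wordId_spec NT k hNT _ h1
    · intro g
      by_cases h0 : ψ g 0 = 0
      · left
        have h1 : ψ 1 0 = ψ g 0 := by rw [h0]; simp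
        have := mem_of_fix H ψ hfix hinj _ _ h1
        simpa using this
      · right
        obtain ⟨x, hx, h, hh, h', hh', e⟩ := hcover g (by omega)
        exact ⟨_, List.mem_map_of_mem hx, h, hh, h', hh', e⟩
  · rw [eq_top_iff, ← hgenA, Subgroup.normalClosure]
    apply Subgroup.closure_mono
    intro x hx
    obtain ⟨a, ha, h⟩ := Group.mem_conjugatesOfSet_iff.1 hx
    rw [Set.mem_singleton_iff] at ha
    subst ha
    exact h
  · rw [card_conjugatesOf, hC, hidx]
  · intro d hd
    rw [mem_conjOf_iff, isConj_iff] at hd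
    obtain ⟨c, rfl⟩ := hd
    obtain ⟨e⟩ := centralizer_conj_equiv t c
    rw [hC] at e
    exact ⟨e⟩

end

end Cfsg.Agent.Lib.Helper3
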